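import Groth.Agent.L14.KoszulFib.Descend
import Groth.Agent.L07.KoszulMor
import Mathlib.Algebra.Category.Ring.Constructions
import Mathlib.AlgebraicGeometry.Morphisms.Flat
import Mathlib.AlgebraicGeometry.Morphisms.FinitePresentation

/-! # The Koszul locus of a morphism of flat schemes and base change -/

set_option autoImplicit false
set_option linter.style.haveILetI false
set_option maxSynthPendingDepth 3

universe u

open CategoryTheory CategoryTheory.Limits AlgebraicGeometry

namespace Groth.L14.KoszulFib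

open Groth.L07.KoszulChart
open Groth.L07.KoszulIdeal (RegAt)

/-- Some affine chart through `x` is a local complete intersection exactly when the map is Koszul at `x`. -/
theorem chart_iff {X Y : Scheme.{u}} (f : X ⟶ Y) (x : X) :
    (∃ (U : X.Opens) (V : Y.Opens) (_ : IsAffineOpen U) (_ : IsAffineOpen V) (hUV : U ≤ f ⁻¹ᵁ V), x ∈ U ∧
      letI := (f.appLE V U hUV).hom.toAlgebra
      LCI.IsLCI Γ(Y, V) Γ(X, U)) ↔ Synt.IsKoszulAt f x := by
  constructor
  · rintro ⟨U, V, hU, hV, e, hx, h⟩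
    exact (isLCI_iff f hU hV e).mp h x hx
  · intro h
    obtain ⟨U₀, P, i, π, hx₀, h1, h2, h3, h4⟩ := id h
    obtain ⟨V, hV, hxV, -⟩ := exists_affine_nhd (f x) ⊤ trivial
    obtain ⟨U, hU, hxU, hle⟩ := exists_affine_nhd x (U₀ ⊓ f ⁻¹ᵁ V) ⟨hx₀, hxV⟩
    exact ⟨U, V, hU, hV, fun z hz => (hle hz).2, hxU,
      (isLCI_iff f hU hV _).mpr fun z hz => ⟨U₀, P, i, π, (hle hz).1, h1, h2, h3, h4⟩⟩

set_option maxHeartbeats 1000000 in
theorem isKoszulAt_iff_baseChange {X Y S X' Y' S' : Scheme.{u}} (f : X ⟶ Y) (g : Y ⟶ S)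
    [Flat (f ≫ g)] [LocallyOfFinitePresentation (f ≫ g)] [Flat g] [LocallyOfFinitePresentation g]
    (h : S' ⟶ S) (gY : Y' ⟶ Y) (g' : Y' ⟶ S') (hY : IsPullback gY g' g h)
    (gX : X' ⟶ X) (f' : X' ⟶ Y') (hX : IsPullback gX (f' ≫ g') (f ≫ g) h) (w : gX ≫ f = f' ≫ gY) (x' : X') :
    Synt.IsKoszulAt f' x' ↔ Synt.IsKoszulAt f (gX x') := by
  have hsq : IsPullback gX f' f gY := IsPullback.of_bot hX w hY
  have hfx : gY (f' x') = f (gX x') := (congrArg (fun m : X' ⟶ Y => m x') w).symm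
  obtain ⟨W, hW, hsW, -⟩ := exists_affine_nhd (g (f (gX x'))) ⊤ trivial
  obtain ⟨V, hV, hyV, eg⟩ := exists_affine_nhd (f (gX x')) (g ⁻¹ᵁ W) hsW
  obtain ⟨U, hU, hxU, e⟩ := exists_affine_nhd (gX x') (f ⁻¹ᵁ V) hyV
  have hgh : h (g' (f' x')) = g (f (gX x')) := by
    rw [← hfx]
    exact (congrArg (fun m : Y' ⟶ S => m (f' x')) hY.w).symm
  obtain ⟨W', hW', hsW', eh⟩ := exists_affine_nhd (g' (f' x')) (h ⁻¹ᵁ W) (show h (g' (f' x')) ∈ W by
    rw [hgh]; exact hsW)
  let V' := gY ⁻¹ᵁ V ⊓ g' ⁻¹ᵁ W'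
  have hUY : V' = gY ⁻¹ᵁ V ⊓ g' ⁻¹ᵁ W' := rfl
  haveI : IsAffine (V : Scheme.{u}) := hV
  haveI : IsAffine (W : Scheme.{u}) := hW
  haveI : IsAffine (W' : Scheme.{u}) := hW'
  have hp := Scheme.Hom.isPullback_resLE hY eh eg hUY
  have hV' : IsAffineOpen V' := IsAffine.of_isIso hp.isoPullback.hom
  have hpush := (isIso_pushoutSection_iff hY eh eg hUY).mp
    (isIso_pushoutSection_of_isAffineOpen hY eh eg hUY hW hW' hV)
  have eV : V' ≤ gY ⁻¹ᵁ V := inf_le_left
  have hxV' : f' x' ∈ V' := ⟨show gY (f' x') ∈ V by rw [hfx]; exact hyV, hsW'⟩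
  haveI : LocallyOfFiniteType f := locallyOfFiniteType_of_comp f g
  obtain ⟨n, α, hα, hαC⟩ := exists_presentation _ (finiteType_appLE f hU hV e inferInstance)
  obtain ⟨U', hU', e', α', hU'eq, hα', hα'C, hker, hprime⟩ := exists_baseChange_chart hsq hU hV e hV' eV α hα hαC
  have hx' : x' ∈ U' := hU'eq ▸ ⟨hxU, hxV'⟩
  rw [isKoszulAt_iff f' hU' hV' e' MvPolynomial.C (smooth_C _ n) α' hα' hα'C x' hx', hker,
    isKoszulAt_iff f hU hV e MvPolynomial.C (smooth_C _ n) α hα hαC (gX x') hxU, ← hprime x' hx' hxU]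
  -- the algebra
  let A := Γ(S, W)
  let A' := Γ(S', W')
  let B := Γ(Y, V)
  let B' := Γ(Y', V')
  let P := MvPolynomial (Fin n) B
  let P' := MvPolynomial (Fin n) B'
  letI : Algebra A A' := (h.appLE W W' eh).hom.toAlgebra
  letI : Algebra A B := (g.appLE W V eg).hom.toAlgebra
  letI : Algebra A' B' := (g'.appLE W' V' inf_le_right).hom.toAlgebra
  letI : Algebra B B' := (gY.appLE V V' eV).hom.toAlgebra
  letI : Algebra A B' := ((gY.appLE V V' eV).hom.comp (g.appLE W V eg).hom).toAlgebra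
  haveI : IsScalarTower A B B' := IsScalarTower.of_algebraMap_eq' rfl
  haveI : IsScalarTower A A' B' := IsScalarTower.of_algebraMap_eq fun a =>
    congrArg (fun m : Γ(S, W) ⟶ Γ(Y', V') => m.hom a) hpush.w
  haveI hAB : Algebra.IsPushout A B A' B' := CommRingCat.isPushout_iff_isPushout.mp hpush
  letI : Algebra P P' := (MvPolynomial.map (gY.appLE V V' eV).hom).toAlgebra
  haveI : IsScalarTower B P P' := IsScalarTower.of_algebraMap_eq fun x => by
    show algebraMap B P' x = MvPolynomial.map _ (MvPolynomial.C x)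
    rw [MvPolynomial.map_C]
    rfl
  haveI : Algebra.IsPushout B B' P P' := MvPolynomial.instIsPushout
  haveI : Algebra.IsPushout B P B' P' := Algebra.IsPushout.symm ‹_›
  haveI : IsScalarTower A P P' := IsScalarTower.of_algebraMap_eq fun a => by
    rw [IsScalarTower.algebraMap_apply A B P, ← IsScalarTower.algebraMap_apply B P P',
      ← IsScalarTower.algebraMap_apply A B P']
  haveI : IsScalarTower A A' P' := IsScalarTower.of_algebraMap_eq fun a => by
    rw [IsScalarTower.algebraMap_apply A B' P', IsScalarTower.algebraMap_apply A A' B',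
      ← IsScalarTower.algebraMap_apply A' B' P']
  haveI : Algebra.IsPushout A P A' P' := (Algebra.IsPushout.comp_iff A B A' B').mpr ‹_›
  haveI : Algebra.IsPushout A A' P P' := Algebra.IsPushout.symm ‹_›
  haveI : Module.Flat A B := Flat.flat_appLE g hW hV eg
  haveI : Algebra.FinitePresentation A B := g.finitePresentation_appLE hW hV eg
  haveI : Module.Flat A P := Module.Flat.trans A B P
  haveI : Algebra.FinitePresentation A P := Algebra.FinitePresentation.trans A B P
  let C := Γ(X, U)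
  have ec : U ≤ (f ≫ g) ⁻¹ᵁ W := fun z hz => eg (e hz)
  letI : Algebra A C := ((f ≫ g).appLE W U ec).hom.toAlgebra
  haveI : Module.Flat A C := Flat.flat_appLE (f ≫ g) hW hU ec
  haveI : Algebra.FinitePresentation A C := (f ≫ g).finitePresentation_appLE hW hU ec
  let αA : P →ₐ[A] C :=
    { α with
      commutes' := fun a => by
        show α (algebraMap A P a) = ((f ≫ g).appLE W U ec).hom a
        rw [IsScalarTower.algebraMap_apply A B P, MvPolynomial.algebraMap_eq]
        have h1 : α (MvPolynomial.C (algebraMap A B a)) = (f.appLE V U e).hom ((g.appLE W V eg).hom a) :=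
          RingHom.congr_fun hαC _
        rw [h1, ← Scheme.Hom.appLE_comp_appLE f g W V U eg e]
        rfl }
  have hJ : (RingHom.ker α).FG := Algebra.FinitePresentation.ker_fG_of_surjective αA hα
  let J : Ideal P := RingHom.ker α
  haveI : Module.Flat A (P ⧸ J) :=
    Module.Flat.of_linearEquiv (M := C) (Ideal.quotientKerAlgEquivOfSurjective (f := αA) hα).toLinearEquiv
  exact regAt_iff_pushout A A' J hJ _ (hker ▸ Groth.L07.KoszulChart.ker_le_prime α' _)

end Groth.L14.KoszulFib
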