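import Groth.Agent.L07.RegAt
import Groth.Agent.L07.KoszulBC
import Mathlib.RingTheory.IsTensorProduct
import Mathlib.RingTheory.Localization.BaseChange
import Mathlib.RingTheory.Localization.Ideal
import Mathlib.RingTheory.Flat.Stability

/-! # Base change of a Koszul-regular ideal with flat quotient -/

set_option autoImplicit false
set_option linter.style.haveILetI false
set_option maxSynthPendingDepth 3

universe u

open CategoryTheory CategoryTheory.Limits TensorProduct
open Groth.L04.Koszul

namespace Groth.L14.KoszulFib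

open Groth.L07.KoszulIdeal

variable {A A' P P' : Type u} [CommRing A] [CommRing A'] [CommRing P] [CommRing P'] [Algebra A A'] [Algebra A P]
  [Algebra A P'] [Algebra A' P'] [Algebra P P'] [IsScalarTower A A' P'] [IsScalarTower A P P']

variable (A A') in
theorem regAt_baseChange [Algebra.IsPushout A A' P P'] [Module.Flat A P] (J : Ideal P) [Module.Flat A (P ⧸ J)] (q' : Ideal P')
    (H : RegAt J (q'.comap (algebraMap P P'))) : RegAt (J.map (algebraMap P P')) q' := by
  obtain ⟨g, hg, l, hl⟩ := H
  let G := algebraMap P P' g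
  let Pg := Localization.Away g
  let PG := Localization.Away G
  let ψ : Pg →+* PG := IsLocalization.Away.map Pg PG (algebraMap P P') g
  letI : Algebra Pg PG := ψ.toAlgebra
  haveI : IsScalarTower P Pg PG := IsScalarTower.of_algebraMap_eq fun x => by
    rw [show algebraMap Pg PG (algebraMap P Pg x) = ψ (algebraMap P Pg x) from rfl]
    exact ((IsLocalization.map_eq _ x).trans (IsScalarTower.algebraMap_apply P P' PG x).symm).symm
  haveI : IsScalarTower A Pg PG := IsScalarTower.of_algebraMap_eq fun x => by
    rw [IsScalarTower.algebraMap_apply A P Pg, ← IsScalarTower.algebraMap_apply P Pg PG,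
      IsScalarTower.algebraMap_apply A P' PG, IsScalarTower.algebraMap_apply A P P',
      ← IsScalarTower.algebraMap_apply P P' PG]
  haveI : IsLocalization (Algebra.algebraMapSubmonoid P' (Submonoid.powers g)) PG := by
    rw [show Algebra.algebraMapSubmonoid P' (Submonoid.powers g) = Submonoid.powers G from
      Submonoid.map_powers _ _]
    infer_instance
  haveI hloc : Algebra.IsPushout P Pg P' PG :=
    Algebra.IsPushout.symm (Algebra.isPushout_of_isLocalization (Submonoid.powers g) Pg P' PG)
  haveI : Algebra.IsPushout A P A' P' := Algebra.IsPushout.symm inferInstance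
  haveI hpush : Algebra.IsPushout A Pg A' PG := (Algebra.IsPushout.comp_iff A P A' P').mpr hloc
  -- the localized quotient is flat
  haveI : Module.Flat A Pg := Module.Flat.trans A P Pg
  let L := l.map (algebraMap P Pg)
  have hIL : J.map (algebraMap P Pg) = Ideal.ofList L :=
    map_eq _ (IsLocalization.Away.algebraMap_isUnit g) hl.1 hl.2.1
  haveI : Module.Flat A (Pg ⧸ Ideal.ofList L) := by
    rw [← hIL]
    haveI : IsLocalization (Algebra.algebraMapSubmonoid (P ⧸ J) (Submonoid.powers g))
        (Pg ⧸ J.map (algebraMap P Pg)) := inferInstance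
    haveI : Module.Flat (P ⧸ J) (Pg ⧸ J.map (algebraMap P Pg)) :=
      IsLocalization.flat _ (Algebra.algebraMapSubmonoid (P ⧸ J) (Submonoid.powers g))
    haveI : IsScalarTower A (P ⧸ J) (Pg ⧸ J.map (algebraMap P Pg)) := IsScalarTower.of_algebraMap_eq fun a => rfl
    exact Module.Flat.trans A (P ⧸ J) _
  let e : Pg ⊗[A] A' ≃ₐ[Pg] PG := Algebra.IsPushout.equiv A Pg A' PG
  have hreg : LCI.IsKoszulRegularSeq PG (L.map (algebraMap Pg PG)) := by
    rw [Groth.L07.KoszulPerm.isKoszulRegularSeq_iff]
    intro i hi
    exact Groth.L07.KoszulBC.isZero_transfer (algebraMap Pg PG) (ModuleCat.of Pg (Pg ⊗[A] A'))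
      (ModuleCat.of PG PG) e.toAddEquiv (fun b m => by
        show e (b • m) = algebraMap Pg PG b * e m
        rw [map_smul, Algebra.smul_def])
      L i (Groth.L07.KoszulBC.isZero_baseChange' L hl.2.2 A' i hi.ne)
  obtain ⟨l', -, hl'⟩ := exists_seqOn_of_away (I := J.map (algebraMap P P')) hreg (by
    rw [← Ideal.map_ofList, ← hIL, Ideal.map_map, Ideal.map_map, ← IsScalarTower.algebraMap_eq,
      ← IsScalarTower.algebraMap_eq])
  exact ⟨G, hg, l', hl'⟩

end Groth.L14.KoszulFib
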