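import Groth.Agent.L07.RegAt
import Groth.Agent.L07.KoszulVars
import Groth.Agent.L02.CAlg.QFSlice.RegSeq
import Mathlib.RingTheory.Flat.EquationalCriterion
import Mathlib.RingTheory.LocalRing.ResidueField.Fiber
import Mathlib.RingTheory.Nakayama

/-! # A flat quotient which is Koszul-regular in the fibre is Koszul-regular -/

set_option autoImplicit false
set_option linter.style.haveILetI false
set_option maxSynthPendingDepth 3

universe u

open CategoryTheory CategoryTheory.Limits TensorProduct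
open Groth.L04.Koszul

namespace Groth.L14.KoszulFib

open Groth.L07.KoszulIdeal

variable {A P : Type u} [CommRing A] [CommRing P] [Algebra A P]

/-- The extended ideal of the base meets the relations of a flat quotient in the product. -/
theorem mem_mul_of_mem (J : Ideal P) [Module.Flat A (P ⧸ J)] (p : Ideal A) {z : P}
    (hz : z ∈ p.map (algebraMap A P)) (hzJ : z ∈ J) : z ∈ p.map (algebraMap A P) * J := by
  classical
  have hz' : z ∈ Submodule.span P (algebraMap A P '' (p : Set A)) := hz
  obtain ⟨T, hT, hzT⟩ := Submodule.mem_span_finite_of_mem_span hz'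
  obtain ⟨a, ha⟩ := Submodule.mem_span_finset'.mp hzT
  choose r hr hrt using fun t : {t // t ∈ T} => hT t.2
  let i : Fin T.card ≃ {t // t ∈ T} := T.equivFin.symm
  have hzsum : z = ∑ k, algebraMap A P (r (i k)) * a (i k) := by
    rw [Equiv.sum_comp i (fun t : {t // t ∈ T} => algebraMap A P (r t) * a t), ← ha]
    exact Finset.sum_congr rfl fun t _ => by rw [hrt, smul_eq_mul, mul_comm]
  have hrel : ∑ k, r (i k) • Ideal.Quotient.mk J (a (i k)) = 0 := by
    rw [← Ideal.Quotient.eq_zero_iff_mem.mpr hzJ, congrArg (Ideal.Quotient.mk J) hzsum, map_sum]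
    exact Finset.sum_congr rfl fun k _ => by
      rw [map_mul, Algebra.smul_def, IsScalarTower.algebraMap_apply A P (P ⧸ J)]
      rfl
  obtain ⟨κ, b, y, hy, hb⟩ := Module.Flat.isTrivialRelation_of_sum_smul_eq_zero (R := A) (M := P ⧸ J) hrel
  choose Y hY using fun l => Ideal.Quotient.mk_surjective (I := J) (y l)
  have h0 : ∑ k, algebraMap A P (r (i k)) * ∑ l, algebraMap A P (b k l) * Y l = 0 := by
    simp only [Finset.mul_sum, ← mul_assoc, ← map_mul]
    rw [Finset.sum_comm]
    refine Finset.sum_eq_zero fun l _ => ?_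
    rw [← Finset.sum_mul, ← map_sum, hb l, map_zero, zero_mul]
  have hz2 : z = ∑ k, algebraMap A P (r (i k)) * (a (i k) - ∑ l, algebraMap A P (b k l) * Y l) := by
    simp only [mul_sub, Finset.sum_sub_distrib, h0, sub_zero]
    exact hzsum
  rw [hz2]
  refine Ideal.sum_mem _ fun k _ => Ideal.mul_mem_mul (Ideal.mem_map_of_mem _ (hr _)) ?_
  rw [← Ideal.Quotient.eq_zero_iff_mem, map_sub, map_sum, show Ideal.Quotient.mk J (a (i k)) = _ from hy k,
    sub_eq_zero]
  exact Finset.sum_congr rfl fun l _ => by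
    rw [map_mul, hY, Algebra.smul_def, IsScalarTower.algebraMap_apply A P (P ⧸ J)]
    rfl

/-- Nakayama for a flat quotient: generators in the fibre are generators. -/
theorem exists_mul_mem_span (J : Ideal P) (hJ : J.FG) [Module.Flat A (P ⧸ J)] (q : Ideal P) [q.IsPrime]
    {c : ℕ} (f : Fin c → P) (hf : ∀ i, f i ∈ J)
    (hgen : ∀ y ∈ J, ∃ t ∉ q, t * y ∈ Ideal.span (Set.range f) ⊔ (q.under A).map (algebraMap A P)) :
    ∃ t ∉ q, ∀ y ∈ J, t * y ∈ Ideal.span (Set.range f) := by
  classical
  let S := Localization.AtPrime q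
  let ι := algebraMap P S
  let K := Ideal.span (Set.range f)
  let pP := (q.under A).map (algebraMap A P)
  have hKJ : K ≤ J := Ideal.span_le.mpr (by rintro _ ⟨i, rfl⟩; exact hf i)
  have hpq : pP ≤ q := Ideal.map_comap_le
  have hle : J.map ι ≤ K.map ι ⊔ IsLocalRing.maximalIdeal S • J.map ι := by
    refine Ideal.map_le_iff_le_comap.mpr fun y hy => ?_
    obtain ⟨t, ht, hty⟩ := hgen y hy
    obtain ⟨u, hu, v, hv, huv⟩ := Submodule.mem_sup.mp hty
    have hvJ : v ∈ J := by
      rw [show v = t * y - u from eq_sub_of_add_eq' huv]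
      exact sub_mem (J.mul_mem_left _ hy) (hKJ hu)
    have hv' := mem_mul_of_mem J (q.under A) hv hvJ
    rw [Ideal.mem_comap]
    have hunit : IsUnit (ι t) := IsLocalization.map_units S (⟨t, ht⟩ : q.primeCompl)
    refine (Ideal.unit_mul_mem_iff_mem _ hunit).mp ?_
    rw [← map_mul, ← huv, map_add]
    refine Submodule.add_mem_sup (Ideal.mem_map_of_mem _ hu) ?_
    rw [smul_eq_mul, ← Localization.AtPrime.map_eq_maximalIdeal, ← Ideal.map_mul]
    exact Ideal.mem_map_of_mem _ (Ideal.mul_mono_left hpq hv')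
  have hJK : J.map ι ≤ K.map ι :=
    Submodule.le_of_le_smul_of_le_jacobson_bot (hJ.map ι) (IsLocalRing.maximalIdeal_le_jacobson ⊥) hle
  obtain ⟨G, hG⟩ := hJ
  choose t ht using fun y : {y // y ∈ G} =>
    (IsLocalization.algebraMap_mem_map_algebraMap_iff q.primeCompl S K y.1).mp
      (hJK (Ideal.mem_map_of_mem ι (hG ▸ Ideal.subset_span y.2 : y.1 ∈ J)))
  refine ⟨∏ y, t y, fun h => ?_, fun y hy => ?_⟩
  · obtain ⟨z, -, hz⟩ := ((inferInstance : q.IsPrime).prod_mem_iff).mp h
    exact (ht z).1 hz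
  · rw [← hG] at hy
    induction hy using Submodule.span_induction with
    | mem z hz =>
      rw [← Finset.prod_erase_mul _ _ (Finset.mem_univ (⟨z, hz⟩ : {y // y ∈ G})), mul_assoc]
      exact K.mul_mem_left _ (ht ⟨z, hz⟩).2
    | zero => rw [mul_zero]; exact zero_mem _
    | add a b _ _ ha hb => rw [mul_add]; exact add_mem ha hb
    | smul a b _ hb => rw [smul_eq_mul, mul_left_comm]; exact K.mul_mem_left _ hb

set_option maxHeartbeats 1000000 in
/-- Koszul regularity in the fibre lifts. -/
theorem regAt_of_fibre [Algebra.FinitePresentation A P] [Module.Flat A P] (J : Ideal P) (hJ : J.FG)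
    [Module.Flat A (P ⧸ J)] (q : Ideal P) [q.IsPrime] (hJq : J ≤ q) (Q : Ideal ((q.under A).Fiber P)) [Q.IsPrime]
    (hQ : Q.comap (Algebra.TensorProduct.includeRight.toRingHom) = q)
    (H : RegAt (J.map (Algebra.TensorProduct.includeRight.toRingHom : P →+* (q.under A).Fiber P)) Q) :
    RegAt J q := by
  classical
  let p := q.under A
  let κ := p.ResidueField
  let F := p.Fiber P
  let inc : P →+* F := Algebra.TensorProduct.includeRight.toRingHom
  let Pq := Localization.AtPrime q
  let pq := p.map (algebraMap A Pq)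
  let S := Pq ⧸ pq
  let π : P →+* S := (Ideal.Quotient.mk pq).comp (algebraMap P Pq)
  have hpqm : pq ≤ IsLocalRing.maximalIdeal Pq := by
    rw [Ideal.map_le_iff_le_comap]
    intro r hr
    rw [Ideal.mem_comap, IsScalarTower.algebraMap_apply A P Pq, ← Localization.AtPrime.map_eq_maximalIdeal]
    exact Ideal.mem_map_of_mem _ hr
  haveI : Nontrivial S := Ideal.Quotient.nontrivial_iff.mpr fun h =>
    (IsLocalRing.maximalIdeal.isMaximal Pq).ne_top (top_le_iff.mp (h ▸ hpqm))
  haveI : IsLocalRing S := IsLocalRing.of_surjective' (Ideal.Quotient.mk pq) Ideal.Quotient.mk_surjective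
  have hS0 : ∀ r ∈ p, algebraMap A S r = 0 := fun r hr =>
    Ideal.Quotient.eq_zero_iff_mem.mpr (Ideal.mem_map_of_mem _ hr)
  have hS1 : ∀ r ∉ p, IsUnit (algebraMap A S r) := fun r hr => by
    show IsUnit (Ideal.Quotient.mk pq (algebraMap A Pq r))
    rw [IsScalarTower.algebraMap_apply A P Pq]
    exact (IsLocalization.map_units Pq (⟨algebraMap A P r, hr⟩ : q.primeCompl)).map _
  have hπu : ∀ a ∉ q, IsUnit (π a) := fun a ha =>
    (IsLocalization.map_units Pq (⟨a, ha⟩ : q.primeCompl)).map (Ideal.Quotient.mk pq)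
  haveI : IsNoetherianRing S := L02.CAlg.QFSlice.isNoetherianRing_fibre_local (R := A) (S := P) p hS0 hS1 fun n => by
    obtain ⟨n, rfl⟩ := Ideal.Quotient.mk_surjective n
    obtain ⟨⟨a, w⟩, haw⟩ := IsLocalization.surj q.primeCompl n
    refine ⟨w, a, hπu w w.2, ?_⟩
    show Ideal.Quotient.mk pq n * Ideal.Quotient.mk pq (algebraMap P Pq w) = Ideal.Quotient.mk pq (algebraMap P Pq a)
    rw [← map_mul, haw]
  obtain ⟨gk⟩ := L02.CAlg.QFSlice.exists_residueField_hom (C := S) p hS0 hS1
  let χ : F →ₐ[A] S := Algebra.TensorProduct.lift gk (IsScalarTower.toAlgHom A P S) fun _ _ => Commute.all _ _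
  have hχ : ∀ a, χ (inc a) = π a := fun a => by
    show χ ((1 : κ) ⊗ₜ a) = π a
    rw [Algebra.TensorProduct.lift_tmul, map_one, one_mul]
    rfl
  have hincA : ∀ r : A, inc (algebraMap A P r) = algebraMap κ F (algebraMap A κ r) := fun r => by
    show Algebra.TensorProduct.includeRight (algebraMap A P r) = _
    rw [AlgHom.commutes]
    rfl
  have hincp : ∀ y ∈ p.map (algebraMap A P), inc y = 0 := fun y hy => by
    refine RingHom.mem_ker.mp ((Ideal.map_le_iff_le_comap.mpr fun r hr => ?_) hy : y ∈ RingHom.ker inc)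
    rw [Ideal.mem_comap, RingHom.mem_ker, hincA, Ideal.algebraMap_residueField_eq_zero.mpr hr, map_zero]
  have hnum : ∀ x : F, ∃ r ∉ p, ∃ a, algebraMap A F r * x = inc a := fun x => by
    obtain ⟨r, hr, a, ha⟩ := Ideal.Fiber.exists_smul_eq_one_tmul p x
    exact ⟨r, hr, a, (Algebra.smul_def r x).symm.trans ha⟩
  have hcomap : ∀ a, inc a ∈ Q ↔ a ∈ q := fun a => SetLike.ext_iff.mp hQ a
  have hQr : ∀ r ∉ p, algebraMap A F r ∉ Q := fun r hr hm => hr (by
    show algebraMap A P r ∈ q
    rw [← hcomap]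
    exact (AlgHom.commutes (Algebra.TensorProduct.includeRight : P →ₐ[A] F) r).symm ▸ hm)
  letI : Algebra F S := χ.toRingHom.toAlgebra
  haveI : IsLocalization Q.primeCompl S := by
    refine (isLocalization_iff _ _).mpr ⟨fun x => ?_, fun z => ?_, fun {x y} hxy => ?_⟩
    · obtain ⟨r, hr, a, ha⟩ := hnum x.1
      have haq : a ∉ q := fun h => by
        rw [← hcomap, ← ha] at h
        exact (Ideal.IsPrime.mem_or_mem inferInstance h).elim (hQr r hr) x.2
      have h1 : IsUnit (χ (algebraMap A F r * x.1)) := by rw [ha, hχ]; exact hπu a haq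
      rw [map_mul] at h1
      exact isUnit_of_mul_isUnit_right h1
    · obtain ⟨z, rfl⟩ := Ideal.Quotient.mk_surjective z
      obtain ⟨⟨a, w⟩, haw⟩ := IsLocalization.surj q.primeCompl z
      refine ⟨(inc a, ⟨inc w, fun h => w.2 ((hcomap w).mp h)⟩), ?_⟩
      show Ideal.Quotient.mk pq z * χ (inc w) = χ (inc a)
      rw [hχ, hχ]
      show Ideal.Quotient.mk pq z * Ideal.Quotient.mk pq _ = Ideal.Quotient.mk pq _
      rw [← map_mul, haw]
    · obtain ⟨r, hr, a, ha⟩ := hnum (x - y)
      have h0 : π a = 0 := by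
        rw [← hχ, ← ha, map_mul, map_sub, show χ x = χ y from hxy, sub_self, mul_zero]
      have h1 : algebraMap P Pq a ∈ (p.map (algebraMap A P)).map (algebraMap P Pq) := by
        rw [Ideal.map_map, ← IsScalarTower.algebraMap_eq]
        exact Ideal.Quotient.eq_zero_iff_mem.mp h0
      obtain ⟨t, ht, hta⟩ := (IsLocalization.algebraMap_mem_map_algebraMap_iff q.primeCompl Pq _ a).mp h1
      refine ⟨⟨inc t * algebraMap A F r, fun h =>
        (Ideal.IsPrime.mem_or_mem inferInstance h).elim (fun h => ht ((hcomap t).mp h)) (hQr r hr)⟩, ?_⟩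
      show inc t * algebraMap A F r * x = inc t * algebraMap A F r * y
      rw [← sub_eq_zero, ← mul_sub, mul_assoc, ha, ← map_mul, hincp _ hta]
  haveI : Module.Flat F S := IsLocalization.flat S Q.primeCompl
  obtain ⟨g, hg, l, hl⟩ := H
  have hgu : IsUnit (algebraMap F S g) := IsLocalization.map_units S (⟨g, hg⟩ : Q.primeCompl)
  have hKl : LCI.IsKoszulRegularSeq S (l.map (algebraMap F S)) :=
    hl.regular _ (RingHom.flat_algebraMap_iff.mpr inferInstance) hgu
  have hmap : (J.map inc).map (algebraMap F S) = Ideal.ofList (l.map (algebraMap F S)) :=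
    map_eq _ hgu hl.1 hl.2.1
  have hJS : (J.map inc).map (algebraMap F S) = J.map π := by
    rw [Ideal.map_map]
    exact congrArg (fun φ => Ideal.map φ J) (RingHom.ext hχ)
  -- lift the generators
  have hlift : ∀ i : Fin l.length, ∃ a ∈ J, ∃ u : S, IsUnit u ∧ π a = u * algebraMap F S l[i.1] := fun i => by
    have hi : l[i.1] ∈ J.map inc := hl.1 _ (List.getElem_mem i.2)
    have hex : ∀ x ∈ J.map inc, ∃ r ∉ p, ∃ a ∈ J, algebraMap A F r * x = inc a := by
      intro x hx
      induction hx using Submodule.span_induction with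
      | mem z hz =>
        obtain ⟨a, ha, rfl⟩ := hz
        exact ⟨1, fun h => (inferInstance : p.IsPrime).ne_top ((Ideal.eq_top_iff_one _).mpr h), a, ha, by simp⟩
      | zero => exact ⟨1, fun h => (inferInstance : p.IsPrime).ne_top ((Ideal.eq_top_iff_one _).mpr h), 0, J.zero_mem, by simp⟩
      | add a b _ _ ha hb =>
        obtain ⟨r, hr, x, hx, hrx⟩ := ha
        obtain ⟨r', hr', x', hx', hrx'⟩ := hb
        refine ⟨r * r', fun h => (Ideal.IsPrime.mem_or_mem inferInstance h).elim hr hr',
          algebraMap A P r' * x + algebraMap A P r * x', add_mem (J.mul_mem_left _ hx) (J.mul_mem_left _ hx'), ?_⟩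
        rw [map_add, map_mul inc, map_mul inc, ← hrx, ← hrx', map_mul (algebraMap A F)]
        have e : ∀ s : A, inc (algebraMap A P s) = algebraMap A F s := fun s =>
          AlgHom.commutes (Algebra.TensorProduct.includeRight : P →ₐ[A] F) s
        rw [e, e]
        ring
      | smul a b _ hb =>
        obtain ⟨r, hr, x, hx, hrx⟩ := hb
        obtain ⟨r', hr', a', ha'⟩ := hnum a
        refine ⟨r' * r, fun h => (Ideal.IsPrime.mem_or_mem inferInstance h).elim hr' hr, a' * x, J.mul_mem_left _ hx, ?_⟩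
        rw [map_mul inc, ← ha', ← hrx, map_mul (algebraMap A F), smul_eq_mul]
        ring
    obtain ⟨r, hr, a, ha, hra⟩ := hex _ hi
    refine ⟨a, ha, χ (algebraMap A F r), by rw [AlgHom.commutes]; exact hS1 r hr, ?_⟩
    rw [← hχ, ← hra, map_mul]
    rfl
  choose f hfJ u hu hfu using hlift
  have hspan : Ideal.ofList (l.map (algebraMap F S)) = Ideal.ofList (List.ofFn fun i => π (f i)) := by
    refine le_antisymm (Ideal.span_le.mpr fun z hz => ?_) (Ideal.span_le.mpr fun z hz => ?_)
    · obtain ⟨x, hx, rfl⟩ := List.mem_map.mp (show z ∈ _ from hz)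
      obtain ⟨i, hi, rfl⟩ := List.mem_iff_getElem.mp hx
      refine (Ideal.unit_mul_mem_iff_mem _ (hu ⟨i, hi⟩)).mp ?_
      rw [← hfu]
      exact Ideal.subset_span (List.mem_ofFn.mpr ⟨⟨i, hi⟩, rfl⟩)
    · obtain ⟨i, rfl⟩ := List.mem_ofFn.mp (show z ∈ _ from hz)
      rw [hfu]
      exact Ideal.mul_mem_left _ _ (Ideal.subset_span (List.mem_map.mpr ⟨_, List.getElem_mem i.2, rfl⟩))
  have hKf : LCI.IsKoszulRegularSeq S (List.ofFn fun i => π (f i)) :=
    Groth.L07.KoszulPerm.isKoszulRegularSeq_of_ofList_eq hspan (by simp) hKl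
  have hmem : ∀ z ∈ List.ofFn (fun i => π (f i)), z ∈ IsLocalRing.maximalIdeal S := by
    intro z hz
    obtain ⟨i, rfl⟩ := List.mem_ofFn.mp hz
    rw [IsLocalRing.mem_maximalIdeal, mem_nonunits_iff]
    intro hun
    haveI : IsLocalHom (Ideal.Quotient.mk pq) := IsLocalHom.of_surjective _ Ideal.Quotient.mk_surjective
    have hun' := IsLocalHom.map_nonunit (f := Ideal.Quotient.mk pq) _ hun
    exact (IsLocalization.AtPrime.isUnit_to_map_iff Pq q _).mp hun' (hJq (hfJ i))
  have hwr : RingTheory.Sequence.IsWeaklyRegular S (List.ofFn fun i => π (f i)) :=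
    Groth.L07.KoszulBC.isWeaklyRegular_of_koszul _ hmem fun n hn =>
      Groth.L07.KoszulBC.isZero_of_isKoszulRegularSeq _ hKf n hn
  -- flat over the polynomial ring
  let T := MvPolynomial (Fin l.length) A
  let τ : T →ₐ[A] P := MvPolynomial.aeval f
  letI : Algebra T P := τ.toRingHom.toAlgebra
  haveI : IsScalarTower A T P := IsScalarTower.of_algebraMap_eq fun a => (τ.commutes a).symm
  have hτ : ∀ i, algebraMap T P (MvPolynomial.X i) = f i := fun i => MvPolynomial.aeval_X f i
  haveI : Module.Flat A Pq := Module.Flat.trans A P Pq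
  obtain ⟨h, hh, hflat⟩ := L02.CAlg.QFSlice.exists_flat_away_of_regular_fibre (R := A) (S := P) (c := l.length) q
    (fun i => (hτ i).symm ▸ hJq (hfJ i))
    (by
      have e : (fun i => Ideal.Quotient.mk pq (algebraMap P Pq (algebraMap T P (MvPolynomial.X i)))) =
          fun i => π (f i) := funext fun i => by rw [hτ]; rfl
      exact (congrArg (fun w => RingTheory.Sequence.IsWeaklyRegular S (List.ofFn w)) e).mpr hwr)
  -- generation
  obtain ⟨t, ht, htJ⟩ := exists_mul_mem_span J hJ q f hfJ fun y hy => by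
    have h1 : π y ∈ (Ideal.span (Set.range f)).map π := by
      have h2 : π y ∈ J.map π := Ideal.mem_map_of_mem π hy
      rw [← hJS, hmap, hspan] at h2
      refine Ideal.span_le.mpr (fun z hz => ?_) h2
      obtain ⟨i, rfl⟩ := List.mem_ofFn.mp (show z ∈ _ from hz)
      exact Ideal.mem_map_of_mem π (Ideal.subset_span ⟨i, rfl⟩)
    have h3 : algebraMap P Pq y ∈
        (Ideal.span (Set.range f) ⊔ p.map (algebraMap A P)).map (algebraMap P Pq) := by
      rw [← Ideal.map_map] at h1
      obtain ⟨w, hw, hw'⟩ := (Ideal.mem_map_iff_of_surjective _ Ideal.Quotient.mk_surjective).mp h1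
      rw [Ideal.map_sup, Ideal.map_map, ← IsScalarTower.algebraMap_eq,
        show algebraMap P Pq y = w + (algebraMap P Pq y - w) by ring]
      exact Submodule.add_mem_sup hw (Ideal.Quotient.eq.mp hw'.symm)
    obtain ⟨t, ht, hty⟩ := (IsLocalization.algebraMap_mem_map_algebraMap_iff q.primeCompl Pq _ y).mp h3
    exact ⟨t, ht, hty⟩
  let L := Localization.Away (h * t)
  have hspanf : Ideal.ofList (List.ofFn f) = Ideal.span (Set.range f) := by
    rw [Ideal.ofList]
    congr 1
    ext z
    simp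
  refine ⟨h * t, fun hm => (Ideal.IsPrime.mem_or_mem inferInstance hm).elim hh ht, List.ofFn f, fun x hx => ?_,
    fun x hx => ⟨1, ?_⟩, ?_⟩
  · obtain ⟨i, rfl⟩ := List.mem_ofFn.mp hx
    exact hfJ i
  · rw [pow_one, hspanf, mul_assoc]
    exact Ideal.mul_mem_left _ _ (htJ x hx)
  · haveI := hflat
    let Ph := Localization.Away h
    have huh : IsUnit (algebraMap P L h) :=
      isUnit_of_dvd_unit (map_dvd _ (dvd_mul_right h t)) (IsLocalization.Away.algebraMap_isUnit (h * t))
    let θ : Ph →+* L := IsLocalization.Away.lift h huh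
    have hθ : θ.Flat := flat_away_lift h (algebraMap P L)
      (RingHom.flat_algebraMap_iff.mpr (IsLocalization.flat _ (Submonoid.powers (h * t)))) huh
    have hfl : (θ.comp (algebraMap T Ph)).Flat :=
      (RingHom.flat_algebraMap_iff.mpr hflat).comp hθ
    have := Groth.L07.KoszulFlat.isKoszulRegularSeq_map _ hfl _ (Groth.L07.KoszulVars.isKoszulRegularSeq_X A l.length)
    rw [List.map_ofFn] at this ⊢
    have e : (⇑(θ.comp (algebraMap T Ph)) ∘ fun i => (MvPolynomial.X i : T)) = ⇑(algebraMap P L) ∘ f :=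
      funext fun i => by
        show θ (algebraMap T Ph (MvPolynomial.X i)) = algebraMap P L (f i)
        rw [IsScalarTower.algebraMap_apply T P Ph, hτ]
        exact IsLocalization.Away.lift_eq h huh (f i)
    rw [← e]
    exact this

end Groth.L14.KoszulFib
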