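import Groth.Agent.L14.KoszulFib.BaseChange
import Groth.Agent.L14.KoszulFib.Lift
import Mathlib.RingTheory.Spectrum.Prime.Chevalley
import Mathlib.RingTheory.TensorProduct.Quotient

/-! # Koszul regularity of a flat quotient is read in the fibres -/

set_option autoImplicit false
set_option linter.style.haveILetI false
set_option maxSynthPendingDepth 3

universe u

open TensorProduct

namespace Groth.L14.KoszulFib

open Groth.L07.KoszulIdeal

/-- An open flat map between fibres over an extension of fields. -/
theorem flat_isOpenMap_of_pushout {k K F T : Type u} [Field k] [Field K] [CommRing F] [CommRing T] [Algebra k K]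
    [Algebra k F] [Algebra k T] [Algebra K T] [Algebra F T] [IsScalarTower k K T] [IsScalarTower k F T]
    [Algebra.IsPushout k F K T] :
    (algebraMap F T).Flat ∧ IsOpenMap (PrimeSpectrum.comap (algebraMap F T)) := by
  let e : F ⊗[k] K ≃ₐ[F] T := Algebra.IsPushout.equiv k F K T
  haveI : Module.Flat F T := Module.Flat.of_linearEquiv e.toLinearEquiv.symm
  refine ⟨RingHom.flat_algebraMap_iff.mpr inferInstance, ?_⟩
  have h : PrimeSpectrum.comap (algebraMap F T) =
      PrimeSpectrum.comap (algebraMap F (F ⊗[k] K)) ∘ PrimeSpectrum.comap e.toRingEquiv.toRingHom := by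
    funext x
    refine PrimeSpectrum.ext ?_
    ext y
    show algebraMap F T y ∈ x.asIdeal ↔ e (algebraMap F (F ⊗[k] K) y) ∈ x.asIdeal
    rw [e.commutes]
  rw [h]
  exact PrimeSpectrum.isOpenMap_comap_algebraMap_tensorProduct_of_field.comp
    (PrimeSpectrum.homeomorphOfRingEquiv e.toRingEquiv).symm.isOpenMap

variable (A A' : Type u) {P P' : Type u} [CommRing A] [CommRing A'] [CommRing P] [CommRing P'] [Algebra A A']
  [Algebra A P] [Algebra A P'] [Algebra A' P'] [Algebra P P'] [IsScalarTower A A' P'] [IsScalarTower A P P']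

theorem flat_of_pushout [Algebra.IsPushout A A' P P'] [Module.Flat A P] : Module.Flat A' P' :=
  Module.Flat.of_linearEquiv (Algebra.IsPushout.equiv A A' P P').toLinearEquiv.symm

theorem flat_quot_of_pushout [Algebra.IsPushout A A' P P'] (J : Ideal P) [Module.Flat A (P ⧸ J)] :
    Module.Flat A' (P' ⧸ J.map (algebraMap P P')) := by
  let e₁ := Algebra.TensorProduct.quotIdealMapEquivTensorQuot P' J
  let e₂ : P' ⊗[P] (P ⧸ J) ≃ₗ[A'] A' ⊗[A] (P ⧸ J) := Algebra.IsPushout.cancelBaseChange A A' P P' (P ⧸ J)
  exact Module.Flat.of_linearEquiv ((e₁.toLinearEquiv.restrictScalars A').trans e₂)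

attribute [local instance] Algebra.TensorProduct.rightAlgebra

set_option maxHeartbeats 1000000 in
/-- Koszul regularity descends along any base change of a flat quotient. -/
theorem regAt_descend_pushout [Algebra.IsPushout A A' P P'] [Algebra.FinitePresentation A P] [Module.Flat A P]
    (J : Ideal P) (hJ : J.FG) [Module.Flat A (P ⧸ J)] (q' : Ideal P') [q'.IsPrime]
    (hJq : J.map (algebraMap P P') ≤ q') (H : RegAt (J.map (algebraMap P P')) q') :
    RegAt J (q'.comap (algebraMap P P')) := by
  let q := q'.comap (algebraMap P P')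
  let p := q.under A
  let p' := q'.under A'
  let k := p.ResidueField
  let K := p'.ResidueField
  let L := q'.ResidueField
  have hp : p = p'.comap (algebraMap A A') := by
    ext r
    show algebraMap P P' (algebraMap A P r) ∈ q' ↔ algebraMap A' P' (algebraMap A A' r) ∈ q'
    rw [← IsScalarTower.algebraMap_apply, ← IsScalarTower.algebraMap_apply]
  let kK : k →ₐ[A] K := Ideal.ResidueField.mapₐ p p' (Algebra.ofId A A') hp
  letI : Algebra k K := kK.toRingHom.toAlgebra
  haveI : IsScalarTower A k K := IsScalarTower.of_algebraMap_eq fun r => (kK.commutes r).symm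
  let Fk := p.Fiber P
  let T := K ⊗[A] P
  let inc : P →+* Fk := Algebra.TensorProduct.includeRight.toRingHom
  -- the fibre of the base change
  let fA' : A' →ₐ[A] T :=
    (Algebra.TensorProduct.includeLeft (R := A) (S := A) (A := K) (B := P)).comp (IsScalarTower.toAlgHom A A' K)
  let χ : P' →ₐ[A] T := Algebra.pushoutDesc P' fA'
    (Algebra.TensorProduct.includeRight (R := A) (A := K) (B := P)) fun _ _ => Commute.all _ _
  letI : Algebra P' T := χ.toRingHom.toAlgebra
  haveI : IsScalarTower A P' T := IsScalarTower.of_algebraMap_eq fun r => (χ.commutes r).symm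
  haveI : IsScalarTower A' P' T := IsScalarTower.of_algebraMap_eq fun r =>
    (Algebra.pushoutDesc_left P' fA' _ _ r).symm
  haveI : IsScalarTower P P' T := IsScalarTower.of_algebraMap_eq fun r =>
    (Algebra.pushoutDesc_right P' fA' (Algebra.TensorProduct.includeRight (R := A) (A := K) (B := P)) _ r).symm
  haveI hK : Algebra.IsPushout A' K P' T := (Algebra.IsPushout.comp_iff A A' P P').mp inferInstance
  let ιA : Fk →ₐ[A] T := Algebra.TensorProduct.map kK (AlgHom.id A P)
  letI : Algebra Fk T := ιA.toRingHom.toAlgebra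
  haveI : IsScalarTower k K T := IsScalarTower.of_algebraMap_eq' rfl
  haveI : IsScalarTower k Fk T := IsScalarTower.of_algebraMap_eq fun x => by
    show (kK x) ⊗ₜ[A] (1 : P) = ιA (x ⊗ₜ[A] 1)
    exact ((Algebra.TensorProduct.map_tmul kK (AlgHom.id A P) x 1).trans rfl).symm
  haveI : IsScalarTower A Fk T := IsScalarTower.of_algebraMap_eq fun r => (ιA.commutes r).symm
  haveI : IsScalarTower P Fk T := IsScalarTower.of_algebraMap_eq fun x => by
    show (1 : K) ⊗ₜ[A] x = ιA ((1 : k) ⊗ₜ[A] x)
    rw [show ιA ((1 : k) ⊗ₜ[A] x) = kK 1 ⊗ₜ[A] x from Algebra.TensorProduct.map_tmul kK (AlgHom.id A P) 1 x, map_one]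
  haveI hk : Algebra.IsPushout k K Fk T := (Algebra.IsPushout.comp_iff A k P Fk).mp inferInstance
  haveI : Algebra.IsPushout k Fk K T := Algebra.IsPushout.symm hk
  obtain ⟨hflat, hopen⟩ := flat_isOpenMap_of_pushout (k := k) (K := K) (F := Fk) (T := T)
  -- a point over `q'`
  let pL : P →ₐ[A] L := (IsScalarTower.toAlgHom A P' L).comp (IsScalarTower.toAlgHom A P P')
  let kL : K →ₐ[A] L := (Ideal.ResidueField.mapₐ p' q' (Algebra.ofId A' P') rfl).restrictScalars A
  let δ : T →ₐ[A] L := Algebra.TensorProduct.lift kL pL fun _ _ => Commute.all _ _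
  have hδ : δ.comp χ = IsScalarTower.toAlgHom A P' L := by
    refine Algebra.IsPushout.algHom_ext P' (R := A) (S := A') (R' := P) ?_ ?_
    · refine AlgHom.ext fun x => ?_
      show δ (χ (algebraMap P P' x)) = algebraMap P' L (algebraMap P P' x)
      rw [show χ (algebraMap P P' x) = (1 : K) ⊗ₜ[A] x from Algebra.pushoutDesc_right P' fA' _ _ x,
        Algebra.TensorProduct.lift_tmul, map_one, one_mul]
      rfl
    · refine AlgHom.ext fun x => ?_
      show δ (χ (algebraMap A' P' x)) = algebraMap P' L (algebraMap A' P' x)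
      rw [show χ (algebraMap A' P' x) = algebraMap A' K x ⊗ₜ[A] (1 : P) from
        Algebra.pushoutDesc_left P' fA' _ _ x]
      rw [Algebra.TensorProduct.lift_tmul, map_one, mul_one, ← IsScalarTower.algebraMap_apply A' P' L]
      exact (Ideal.ResidueField.mapₐ p' q' (Algebra.ofId A' P') rfl).commutes x
  let Q' : Ideal T := RingHom.ker δ.toRingHom
  haveI : Q'.IsPrime := RingHom.ker_isPrime _
  have hQ' : Q'.comap (algebraMap P' T) = q' := by
    ext x
    show δ (χ x) = 0 ↔ _
    rw [← AlgHom.comp_apply, hδ]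
    exact Ideal.algebraMap_residueField_eq_zero
  haveI := flat_of_pushout A A' (P := P) (P' := P')
  haveI := flat_quot_of_pushout A A' (P' := P') J
  have hT : RegAt ((J.map (algebraMap P P')).map (algebraMap P' T)) Q' :=
    regAt_baseChange A' K (J.map (algebraMap P P')) Q' (hQ'.symm ▸ H)
  let Q : Ideal Fk := Q'.comap (algebraMap Fk T)
  have hQ : Q.comap inc = q := by
    show (Q'.comap (algebraMap Fk T)).comap (algebraMap P Fk) = q
    rw [Ideal.comap_comap, ← IsScalarTower.algebraMap_eq, IsScalarTower.algebraMap_eq P P' T, ← Ideal.comap_comap,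
      hQ']
  have hJQ : J.map inc ≤ Q := by
    rw [Ideal.map_le_iff_le_comap, hQ]
    exact Ideal.map_le_iff_le_comap.mp hJq
  have hmap : (J.map inc).map (algebraMap Fk T) = (J.map (algebraMap P P')).map (algebraMap P' T) := by
    show (J.map (algebraMap P Fk)).map (algebraMap Fk T) = _
    rw [Ideal.map_map, Ideal.map_map, ← IsScalarTower.algebraMap_eq, ← IsScalarTower.algebraMap_eq]
  exact regAt_of_fibre J hJ q (Ideal.map_le_iff_le_comap.mp hJq) Q hQ
    (regAt_descend (algebraMap Fk T) hflat hopen (J.map inc) Q' hJQ (hmap.symm ▸ hT))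

theorem regAt_iff_pushout [Algebra.IsPushout A A' P P'] [Algebra.FinitePresentation A P] [Module.Flat A P]
    (J : Ideal P) (hJ : J.FG) [Module.Flat A (P ⧸ J)] (q' : Ideal P') [q'.IsPrime]
    (hJq : J.map (algebraMap P P') ≤ q') :
    RegAt (J.map (algebraMap P P')) q' ↔ RegAt J (q'.comap (algebraMap P P')) :=
  ⟨regAt_descend_pushout A A' J hJ q' hJq, regAt_baseChange A A' J q'⟩

end Groth.L14.KoszulFib
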