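import Groth.Agent.L07.KoszulBC
import Groth.Agent.L07.KoszulPerm
import Groth.Agent.L01.SqZeroFlat
import Mathlib.LinearAlgebra.TensorProduct.Quotient
import Mathlib.RingTheory.Flat.Stability
import Mathlib.RingTheory.RingHom.Flat
import Groth.Agent.L07.KoszulFlat

/-! # Koszul regularity and flatness across a square-zero ideal of the base -/

set_option autoImplicit false
set_option linter.style.haveILetI false
set_option maxSynthPendingDepth 3
set_option backward.isDefEq.respectTransparency.types false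

universe u

open CategoryTheory CategoryTheory.Limits TensorProduct
open Groth.L04.Koszul Groth.L07.KoszulBC CochainComplex CohIII
open Groth.L28.Kun (Z cl cl_surjective cl_eq_zero_iff)

namespace Groth.L14.KoszulFib

/-- Transfer back along a semilinear isomorphism. -/
theorem isZero_of_transfer {B B' : Type u} [CommRing B] [CommRing B'] (φ : B →+* B') (M : ModuleCat.{u} B)
    (M' : ModuleCat.{u} B') (e : M ≃+ M') (he : ∀ (b : B) (m : M), e (b • m) = φ b • e m) (l : List B) (n : ℤ)
    (h : IsZero ((koszulCx M' (l.map φ)).homology n)) : IsZero ((koszulCx M l).homology n) := by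
  obtain ⟨E, -, hd⟩ := exists_cxEquiv φ M M' e he l
  haveI := ModuleCat.isZero_iff_subsingleton.1 h
  obtain ⟨i, rfl⟩ : ∃ i, n = i + 1 := ⟨n - 1, (sub_add_cancel n 1).symm⟩
  refine ModuleCat.isZero_iff_subsingleton.2 (subsingleton_of_forall_eq 0 fun c => ?_)
  obtain ⟨z, rfl⟩ := cl_surjective _ _ c
  have hxZ : E (i + 1) z.1 ∈ Z (koszulCx M' (l.map φ)) (i + 1) := by
    refine (hd _ z.1).trans ?_
    rw [show (koszulCx M l).d (i + 1) (i + 1 + 1) z.1 = 0 from z.2, map_zero]
  obtain ⟨y, hy⟩ := (cl_eq_zero_iff _ (m := i) rfl ⟨_, hxZ⟩).mp (Subsingleton.elim _ _)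
  obtain ⟨x, rfl⟩ := (E i).surjective y
  rw [cl_eq_zero_iff _ (m := i) rfl]
  refine ⟨x, (E (i + 1)).injective ?_⟩
  rw [← hd]
  exact hy

variable (A B : Type u) [CommRing A] [CommRing B] [Algebra A B] [Module.Flat A B]

set_option maxHeartbeats 1000000 in
/-- Across a square-zero ideal. -/
theorem regular_flat_of_mod_sqZero (J : Ideal A) (hJ : J * J = ⊥) (rs : List B)
    (hreg : LCI.IsKoszulRegularSeq (B ⧸ Ideal.map (algebraMap A B) J)
      (rs.map (Ideal.Quotient.mk (Ideal.map (algebraMap A B) J))))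
    (hflat : Module.Flat (A ⧸ J) ((B ⧸ Ideal.map (algebraMap A B) J) ⧸
      Ideal.ofList (rs.map (Ideal.Quotient.mk (Ideal.map (algebraMap A B) J))))) :
    LCI.IsKoszulRegularSeq B rs ∧ Module.Flat A (B ⧸ Ideal.ofList rs) := by
  classical
  let JB := Ideal.map (algebraMap A B) J
  let Bb := B ⧸ JB
  let π : B →+* Bb := Ideal.Quotient.mk JB
  let I := Ideal.ofList rs
  haveI hBflat : Module.Flat (A ⧸ J) Bb := by
    let e : (A ⧸ J) ⊗[A] B ≃ₗ[A] Bb := TensorProduct.quotTensorEquivQuotSMul B J ≪≫ₗ
      Submodule.quotEquivOfEq _ (JB.restrictScalars A) (Ideal.smul_top_eq_map J)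
    exact Module.Flat.of_linearEquiv (e.extendScalarsOfSurjective (S := A ⧸ J) Ideal.Quotient.mk_surjective).symm
  haveI := hflat
  let q : A →ₗ[A] A ⧸ J := (Ideal.Quotient.mkₐ A J).toLinearMap
  let fι := (J.subtype).baseChange B
  let fπ := q.baseChange B
  have hq : Function.Surjective q := Ideal.Quotient.mk_surjective
  have hexA : Function.Exact J.subtype q := fun x =>
    ⟨fun h => ⟨⟨x, Ideal.Quotient.eq_zero_iff_mem.mp h⟩, rfl⟩,
      fun ⟨w, hw⟩ => hw ▸ Ideal.Quotient.eq_zero_iff_mem.mpr w.2⟩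
  have hex : Function.Exact fι fπ := lTensor_exact B hexA hq
  have hι : Function.Injective fι :=
    Module.Flat.lTensor_preserves_injective_linearMap J.subtype Subtype.val_injective
  have hS : (ShortComplex.moduleCatMkOfKerLERange (ModuleCat.ofHom fι) (ModuleCat.ofHom fπ)
      (LinearMap.exact_iff.mp hex).ge).ShortExact := by
    refine { exact := ?_, mono_f := ?_, epi_g := ?_ }
    · rw [ShortComplex.ShortExact.moduleCat_exact_iff_function_exact]; exact hex
    · rw [ModuleCat.mono_iff_injective]; exact hι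
    · rw [ModuleCat.epi_iff_surjective]; exact LinearMap.lTensor_surjective B hq
  have hK := kSeq_shortExact hS rs
  -- the ends
  have hthird : ∀ n : ℤ, n ≠ 0 → IsZero ((koszulCx (ModuleCat.of B (B ⊗[A] (A ⧸ J))) rs).homology n) := fun n hn => by
    refine isZero_of_transfer π _ (ModuleCat.of Bb Bb)
      (Algebra.TensorProduct.quotIdealMapEquivTensorQuot B J).symm.toAddEquiv (fun b m => ?_) rs n ?_
    · show (Algebra.TensorProduct.quotIdealMapEquivTensorQuot B J).symm (b • m) = _
      rw [map_smul]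
      rfl
    · exact isZero_of_isKoszulRegularSeq _ hreg n hn
  have hfirst : ∀ n : ℤ, n ≠ 0 → IsZero ((koszulCx (ModuleCat.of B (B ⊗[A] J)) rs).homology n) := by
    have htor : Module.IsTorsionBySet A J J := fun x a => by
      apply Subtype.ext
      have h := Ideal.mul_mem_mul a.2 x.2
      rw [hJ, Submodule.mem_bot] at h
      simpa using h
    letI : Module (A ⧸ J) J := htor.module
    haveI : IsScalarTower A (A ⧸ J) J := htor.isScalarTower
    haveI : TensorProduct.CompatibleSMul A (A ⧸ J) Bb J := ⟨fun r m n => by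
      obtain ⟨a, rfl⟩ := Ideal.Quotient.mk_surjective r
      rw [← Ideal.Quotient.algebraMap_eq, algebraMap_smul, algebraMap_smul, TensorProduct.smul_tmul]⟩
    let πl : B →ₗ[A] Bb := (Ideal.Quotient.mkₐ A JB).toLinearMap
    let g : B ⊗[A] J →ₗ[A] Bb ⊗[A] J := πl.rTensor J
    have hπl : Function.Surjective πl := Ideal.Quotient.mk_surjective
    have hg : Function.Bijective g := by
      refine ⟨(injective_iff_map_eq_zero g).mpr fun x hx => ?_, LinearMap.rTensor_surjective J hπl⟩
      have hexB : Function.Exact ((JB.restrictScalars A).subtype) πl := fun b =>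
        ⟨fun h => ⟨⟨b, Ideal.Quotient.eq_zero_iff_mem.mp h⟩, rfl⟩,
          fun ⟨w, hw⟩ => hw ▸ Ideal.Quotient.eq_zero_iff_mem.mpr w.2⟩
      obtain ⟨y, rfl⟩ := (rTensor_exact J hexB hπl x).mp hx
      clear hx
      have key : ∀ b ∈ JB, ∀ j : J, b ⊗ₜ[A] j = (0 : B ⊗[A] J) := by
        intro b hb
        induction hb using Submodule.span_induction with
        | mem b hb =>
          obtain ⟨a, ha, rfl⟩ := hb
          intro j
          rw [Algebra.algebraMap_eq_smul_one, TensorProduct.smul_tmul, @htor j ⟨a, ha⟩, TensorProduct.tmul_zero]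
        | zero => exact fun j => TensorProduct.zero_tmul _ _
        | add b c _ _ hb hc => intro j; rw [TensorProduct.add_tmul, hb, hc, add_zero]
        | smul r b _ hb =>
          intro j
          rw [← TensorProduct.smul_tmul', hb, smul_zero]
      induction y using TensorProduct.induction_on with
      | zero => rw [map_zero]
      | tmul b j => exact key b.1 b.2 j
      | add a b ha hb => rw [map_add, ha, hb, add_zero]
    let e₂ := TensorProduct.equivOfCompatibleSMul (A ⧸ J) A A Bb J
    let e : (B ⊗[A] J) ≃+ (Bb ⊗[A ⧸ J] J) := (LinearEquiv.ofBijective g hg).toAddEquiv.trans e₂.toAddEquiv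
    intro n hn
    refine isZero_of_transfer π _ (ModuleCat.of Bb (Bb ⊗[A ⧸ J] J)) e (fun b m => ?_) rs n ?_
    · show e (b • m) = π b • e m
      induction m using TensorProduct.induction_on with
      | zero => simp
      | tmul c j =>
        rfl
      | add a c ha hc => simp only [smul_add, map_add, ha, hc]
    · exact isZero_baseChange' (A := A ⧸ J) _ hreg J n hn
  -- the middle
  have hmid : ∀ n : ℤ, n ≠ 0 → IsZero ((koszulCx (ModuleCat.of B (B ⊗[A] A)) rs).homology n) := fun n hn => by
    have h₂ := (ShortComplex.ShortExact.moduleCat_exact_iff_function_exact _).1 (hK.homology_exact₂ n)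
    refine ModuleCat.isZero_iff_subsingleton.2 (subsingleton_of_forall_eq 0 fun d => ?_)
    obtain ⟨c, rfl⟩ := (h₂ d).1 (@Subsingleton.elim _ (ModuleCat.subsingleton_of_isZero (hthird n hn)) _ _)
    exact (congrArg _ (@Subsingleton.elim _ (ModuleCat.subsingleton_of_isZero (hfirst n hn)) c 0)).trans (map_zero _)
  have hKB : LCI.IsKoszulRegularSeq B rs := by
    rw [Groth.L07.KoszulPerm.isKoszulRegularSeq_iff]
    intro n hn
    exact isZero_of_iso (TensorProduct.AlgebraTensorModule.rid A B B).toModuleIso rs n (hmid n hn.ne)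
  refine ⟨hKB, ?_⟩
  -- flatness
  have hinj : ∀ x : B ⊗[A] J, fι x ∈ I • (⊤ : Submodule B (B ⊗[A] A)) → x ∈ I • (⊤ : Submodule B (B ⊗[A] J)) := by
    intro x hx
    have e₁ := (ShortComplex.ShortExact.moduleCat_exact_iff_function_exact _).1
      (hK.homology_exact₁ (-1) 0 (by simp))
    have h0 : HomologicalComplex.homologyMap (kmap (ModuleCat.ofHom fι) rs) 0 (topMap _ rs x) = 0 := by
      rw [topMap_kmap, ← LinearMap.mem_ker, ker_topMap]
      exact hx
    obtain ⟨d, hd⟩ := (e₁ _).1 h0
    refine (ker_topMap (ModuleCat.of B (B ⊗[A] J)) rs).le ?_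
    have hd0 := @Subsingleton.elim _ (ModuleCat.subsingleton_of_isZero (hthird (-1) (by omega))) d 0
    exact (hd.symm.trans (congrArg _ hd0)).trans (map_zero _)
  let Q := B ⧸ I
  haveI : Module.Flat (A ⧸ J) ((A ⧸ J) ⊗[A] Q) := by
    let Jb := Ideal.ofList (rs.map π)
    have hle : I ≤ Jb.comap π := Ideal.span_le.mpr fun r hr => Ideal.subset_span (List.mem_map.mpr ⟨r, hr, rfl⟩)
    let h : Q →ₗ[A] Bb ⧸ Jb := (Ideal.quotientMapₐ Jb (Ideal.Quotient.mkₐ A JB) hle).toLinearMap
    have hsurj : Function.Surjective h := fun z => by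
      obtain ⟨z, rfl⟩ := Ideal.Quotient.mk_surjective z
      obtain ⟨b, rfl⟩ := Ideal.Quotient.mk_surjective z
      exact ⟨Ideal.Quotient.mk I b, rfl⟩
    have hker : LinearMap.ker h = J • (⊤ : Submodule A Q) := by
      rw [Ideal.smul_top_eq_map]
      ext z
      obtain ⟨b, rfl⟩ := Ideal.Quotient.mk_surjective z
      show Ideal.Quotient.mk Jb (π b) = 0 ↔ Ideal.Quotient.mk I b ∈ J.map (algebraMap A Q)
      rw [Ideal.Quotient.eq_zero_iff_mem, show Jb = I.map π from (Ideal.map_ofList π rs).symm,
        IsScalarTower.algebraMap_eq A B Q, ← Ideal.map_map, Ideal.Quotient.algebraMap_eq, ← Ideal.mem_comap,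
        Ideal.comap_map_of_surjective π Ideal.Quotient.mk_surjective, ← Ideal.mem_comap (f := Ideal.Quotient.mk I),
        Ideal.comap_map_of_surjective (Ideal.Quotient.mk I) Ideal.Quotient.mk_surjective, ← RingHom.ker_eq_comap_bot,
        ← RingHom.ker_eq_comap_bot, Ideal.mk_ker, Ideal.mk_ker, sup_comm]
    let e : (A ⧸ J) ⊗[A] Q ≃ₗ[A] Bb ⧸ Jb := TensorProduct.quotTensorEquivQuotSMul Q J ≪≫ₗ
      Submodule.quotEquivOfEq _ _ hker.symm ≪≫ₗ h.quotKerEquivOfSurjective hsurj
    exact Module.Flat.of_linearEquiv (e.extendScalarsOfSurjective (S := A ⧸ J) Ideal.Quotient.mk_surjective)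
  refine Groth.L01.SqZeroFlat.flat J hJ ?_
  rw [injective_iff_map_eq_zero]
  intro t ht
  let πQ : B →ₗ[A] Q := (Ideal.Quotient.mkₐ A I).toLinearMap
  obtain ⟨x, rfl⟩ := LinearMap.lTensor_surjective J (show Function.Surjective πQ from Ideal.Quotient.mk_surjective) t
  let c : J ⊗[A] B ≃ₗ[A] B ⊗[A] J := TensorProduct.comm A J B
  have hkill : ∀ y ∈ I • (⊤ : Submodule B (B ⊗[A] J)), πQ.lTensor J (c.symm y) = 0 := by
    intro y hy
    refine Submodule.smul_induction_on hy (fun r hr z _ => ?_) (fun a b ha hb => by rw [map_add, map_add, ha, hb, add_zero])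
    induction z using TensorProduct.induction_on with
    | zero => rw [smul_zero, map_zero, map_zero]
    | add a b ha hb => rw [smul_add, map_add, map_add, ha trivial, hb trivial, add_zero]
    | tmul b j =>
      rw [TensorProduct.smul_tmul', TensorProduct.comm_symm_tmul, LinearMap.lTensor_tmul,
        show πQ (r • b) = 0 from Ideal.Quotient.eq_zero_iff_mem.mpr (Ideal.mul_mem_right _ _ hr), TensorProduct.tmul_zero]
  rw [← c.symm_apply_apply x]
  refine hkill _ (hinj _ ?_)
  let rd := TensorProduct.AlgebraTensorModule.rid A B B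
  have hcomm : ∀ x : J ⊗[A] B, πQ (rd (fι (c x))) = TensorProduct.lid A Q (J.subtype.rTensor Q (πQ.lTensor J x)) := by
    intro x
    induction x using TensorProduct.induction_on with
    | zero => simp
    | tmul j b =>
      show πQ (rd (b ⊗ₜ[A] (j : A))) = _
      rw [LinearMap.lTensor_tmul, LinearMap.rTensor_tmul, TensorProduct.lid_tmul,
        TensorProduct.AlgebraTensorModule.rid_tmul, map_smul]
      rfl
    | add a b ha hb => simp only [map_add, ha, hb]
  have h1 : rd (fι (c x)) ∈ I := by
    rw [← Ideal.Quotient.eq_zero_iff_mem]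
    exact (hcomm x).trans (by rw [ht, map_zero])
  rw [← rd.symm_apply_apply (fι (c x)), show rd.symm (rd (fι (c x))) = rd (fι (c x)) • ((1 : B) ⊗ₜ[A] (1 : A)) by
    rw [TensorProduct.smul_tmul', smul_eq_mul, mul_one, TensorProduct.AlgebraTensorModule.rid_symm_apply]]
  exact Submodule.smul_mem_smul h1 trivial

end Groth.L14.KoszulFib

namespace Groth.L14.KoszulFib

set_option maxHeartbeats 800000 in
/-- Across a nilpotent ideal. -/
theorem regular_flat_of_mod_nilpotent : ∀ (n : ℕ) (A B : Type u) [CommRing A] [CommRing B] [Algebra A B]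
    [Module.Flat A B] (I : Ideal A), I ^ (n + 1) = ⊥ → ∀ (rs : List B),
    LCI.IsKoszulRegularSeq (B ⧸ Ideal.map (algebraMap A B) I)
      (rs.map (Ideal.Quotient.mk (Ideal.map (algebraMap A B) I))) →
    Module.Flat (A ⧸ I) ((B ⧸ Ideal.map (algebraMap A B) I) ⧸
      Ideal.ofList (rs.map (Ideal.Quotient.mk (Ideal.map (algebraMap A B) I)))) →
    LCI.IsKoszulRegularSeq B rs ∧ Module.Flat A (B ⧸ Ideal.ofList rs) := by
  intro n
  induction n with
  | zero =>
    intro A B _ _ _ _ I hI rs hreg hflat
    rw [pow_one] at hI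
    exact regular_flat_of_mod_sqZero A B I (by rw [hI, Ideal.bot_mul]) rs hreg hflat
  | succ n ih =>
    intro A B _ _ _ _ I hI rs hreg hflat
    let J := I ^ (n + 1)
    have hJI : J ≤ I := Ideal.pow_le_self (by omega)
    let A' := A ⧸ J
    let B' := B ⧸ J.map (algebraMap A B)
    let πA : A →+* A' := Ideal.Quotient.mk J
    let πB : B →+* B' := Ideal.Quotient.mk (J.map (algebraMap A B))
    let I' := I.map πA
    haveI : Module.Flat A' B' := by
      let e : (A ⧸ J) ⊗[A] B ≃ₗ[A] B' := TensorProduct.quotTensorEquivQuotSMul B J ≪≫ₗ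
        Submodule.quotEquivOfEq _ ((J.map (algebraMap A B)).restrictScalars A) (Ideal.smul_top_eq_map J)
      exact Module.Flat.of_linearEquiv (e.extendScalarsOfSurjective (S := A ⧸ J) Ideal.Quotient.mk_surjective).symm
    have hI'B : I'.map (algebraMap A' B') = (I.map (algebraMap A B)).map πB := by
      rw [Ideal.map_map, Ideal.map_map]
      rfl
    let S := B ⧸ I.map (algebraMap A B)
    let S' := B' ⧸ I'.map (algebraMap A' B')
    let φ : S →+* S' := Ideal.quotientMap _ πB (Ideal.map_le_iff_le_comap.mp hI'B.ge)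
    have hφ : Function.Bijective φ := by
      refine ⟨Ideal.quotientMap_injective' ?_, Ideal.quotientMap_surjective Ideal.Quotient.mk_surjective⟩
      rw [hI'B, Ideal.comap_map_of_surjective πB Ideal.Quotient.mk_surjective, ← RingHom.ker_eq_comap_bot,
        Ideal.mk_ker, sup_eq_left.mpr (Ideal.map_mono hJI)]
    have hl : (rs.map (Ideal.Quotient.mk (I.map (algebraMap A B)))).map φ =
        (rs.map πB).map (Ideal.Quotient.mk (I'.map (algebraMap A' B'))) := by
      rw [List.map_map, List.map_map]
      exact List.map_congr_left fun x _ => rfl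
    have hreg' : LCI.IsKoszulRegularSeq S' ((rs.map πB).map (Ideal.Quotient.mk (I'.map (algebraMap A' B')))) := by
      rw [← hl]
      exact Groth.L07.KoszulFlat.isKoszulRegularSeq_map φ (RingHom.Flat.of_bijective hφ) _ hreg
    let l := Ideal.ofList (rs.map (Ideal.Quotient.mk (I.map (algebraMap A B))))
    let l' := Ideal.ofList ((rs.map πB).map (Ideal.Quotient.mk (I'.map (algebraMap A' B'))))
    have hll : l.map φ = l' := by rw [Ideal.map_ofList, hl]
    let χ : S ⧸ l →+* S' ⧸ l' := Ideal.quotientMap l' φ (Ideal.map_le_iff_le_comap.mp hll.le)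
    have hχ : Function.Bijective χ := by
      refine ⟨Ideal.quotientMap_injective' ?_, Ideal.quotientMap_surjective hφ.2⟩
      rw [← hll, Ideal.comap_map_of_bijective φ hφ]
    let ψ : A ⧸ I →+* A' ⧸ I' := Ideal.quotientMap I' πA (Ideal.map_le_iff_le_comap.mp le_rfl)
    have hψ : Function.Bijective ψ := by
      refine ⟨Ideal.quotientMap_injective' ?_, Ideal.quotientMap_surjective Ideal.Quotient.mk_surjective⟩
      rw [Ideal.comap_map_of_surjective πA Ideal.Quotient.mk_surjective, ← RingHom.ker_eq_comap_bot, Ideal.mk_ker,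
        sup_eq_left.mpr hJI]
    have hflat' : Module.Flat (A' ⧸ I') (S' ⧸ l') := by
      rw [← RingHom.flat_algebraMap_iff]
      have e : algebraMap (A' ⧸ I') (S' ⧸ l') =
          (χ.comp (algebraMap (A ⧸ I) (S ⧸ l))).comp (RingEquiv.ofBijective ψ hψ).symm.toRingHom := by
        refine RingHom.ext fun z => ?_
        obtain ⟨z, rfl⟩ := (RingEquiv.ofBijective ψ hψ).surjective z
        rw [RingHom.comp_apply, RingEquiv.toRingHom_eq_coe, RingEquiv.coe_toRingHom, RingEquiv.symm_apply_apply]
        obtain ⟨a, rfl⟩ := Ideal.Quotient.mk_surjective z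
        rfl
      rw [e]
      exact RingHom.Flat.comp (RingHom.Flat.of_bijective (RingEquiv.ofBijective ψ hψ).symm.bijective)
        (RingHom.Flat.comp (RingHom.flat_algebraMap_iff.mpr hflat) (RingHom.Flat.of_bijective hχ))
    obtain ⟨hreg₁, hflat₁⟩ := ih A' B' I' (by rw [← Ideal.map_pow]; exact Ideal.map_quotient_self J) (rs.map πB)
      hreg' hflat'
    refine regular_flat_of_mod_sqZero A B J ?_ rs hreg₁ hflat₁
    rw [← pow_add, eq_bot_iff, ← hI]
    exact Ideal.pow_le_pow_right (by omega)

end Groth.L14.KoszulFib
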